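import Cfsg.Agent.J4Eleven.Heis
import Mathlib.LinearAlgebra.Matrix.GeneralLinearGroup.Card

/-!
The normaliser of a group of order 1331 and exponent 11.
-/

set_option autoImplicit false

namespace Cfsg.Lib.J4Eleven

open Subgroup

namespace Heis

variable {G : Type*} [Group G] (H : Heis G)

/-- The first coordinate. -/
noncomputable def coA (g : H.U) : ZMod 11 := (g.2.choose : ℕ)

/-- The second coordinate. -/
noncomputable def coB (g : H.U) : ZMod 11 := (g.2.choose_spec.choose : ℕ)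

theorem co_eq {g : H.U} {a b c : ℕ} (h : (g : G) = H.el a b c) :
    H.coA g = (a : ZMod 11) ∧ H.coB g = (b : ZMod 11) := by
  obtain ⟨c', hc⟩ := g.2.choose_spec.choose_spec
  obtain ⟨h1, h2⟩ := H.el_inj (hc.symm.trans h)
  exact ⟨(ZMod.natCast_eq_natCast_iff' _ _ 11).2 h1, (ZMod.natCast_eq_natCast_iff' _ _ 11).2 h2⟩

theorem co_mul (g h : H.U) : H.coA (g * h) = H.coA g + H.coA h ∧ H.coB (g * h) = H.coB g + H.coB h := by
  obtain ⟨_, a, b, c, rfl⟩ := g
  obtain ⟨_, a', b', c', rfl⟩ := h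
  obtain ⟨h1, h2⟩ := H.co_eq (g := ⟨H.el a b c, H.el_mem a b c⟩) rfl
  obtain ⟨h3, h4⟩ := H.co_eq (g := ⟨H.el a' b' c', H.el_mem a' b' c'⟩) rfl
  obtain ⟨h5, h6⟩ := H.co_eq (g := ⟨H.el a b c, H.el_mem a b c⟩ * ⟨H.el a' b' c', H.el_mem a' b' c'⟩)
    (H.el_mul a b c a' b' c')
  rw [h1, h2, h3, h4, h5, h6]
  push_cast
  exact ⟨rfl, rfl⟩

theorem co_pow (g : H.U) : ∀ n : ℕ, H.coA (g ^ n) = n * H.coA g ∧ H.coB (g ^ n) = n * H.coB g
  | 0 => by
    obtain ⟨h1, h2⟩ := H.co_eq (g := (1 : H.U)) (by simpa using H.el_zero.symm)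
    simp [h1, h2]
  | n + 1 => by
    rw [pow_succ, (H.co_mul _ _).1, (H.co_mul _ _).2, (co_pow g n).1, (co_pow g n).2]
    push_cast
    exact ⟨by ring, by ring⟩

/-- The image of an element under a normalising element. -/
def cjU (n : normalizer (H.U : Set G)) (g : H.U) : H.U :=
  ⟨(n : G) * g * (n : G)⁻¹, (mem_normalizer_iff.1 n.2 g).1 g.2⟩

/-- The first generator as an element of the group. -/
def uU : H.U := ⟨H.u, by rw [H.u_eq]; exact H.el_mem _ _ _⟩

/-- The second generator as an element of the group. -/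
def xU : H.U := ⟨H.x, by rw [H.x_eq]; exact H.el_mem _ _ _⟩

theorem cjU_mul (n : normalizer (H.U : Set G)) (g h : H.U) : H.cjU n (g * h) = H.cjU n g * H.cjU n h :=
  Subtype.ext (by simp [cjU, mul_assoc])

theorem cjU_pow (n : normalizer (H.U : Set G)) (g : H.U) : ∀ k : ℕ, H.cjU n (g ^ k) = H.cjU n g ^ k
  | 0 => Subtype.ext (by simp [cjU])
  | k + 1 => by rw [pow_succ, pow_succ, H.cjU_mul, cjU_pow n g k]

theorem z_central (g : H.U) : (⟨H.z, H.z_mem⟩ : H.U) * g = g * ⟨H.z, H.z_mem⟩ := by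
  obtain ⟨_, a, b, c, rfl⟩ := g
  exact Subtype.ext (by simpa using (H.z_comm_el 1 a b c).eq)

theorem co_cjU_z (n : normalizer (H.U : Set G)) :
    H.coA (H.cjU n ⟨H.z, H.z_mem⟩) = 0 ∧ H.coB (H.cjU n ⟨H.z, H.z_mem⟩) = 0 := by
  have hc : (H.cjU n ⟨H.z, H.z_mem⟩ : G) ∈ zpowers H.z := by
    rw [← H.mem_center_iff, Subgroup.mem_center_iff]
    intro g
    have h := congrArg (H.cjU n) (H.z_central (H.cjU n⁻¹ g))
    rw [H.cjU_mul, H.cjU_mul] at h
    have e : H.cjU n (H.cjU n⁻¹ g) = g := Subtype.ext (by simp [cjU, mul_assoc])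
    rw [e] at h
    exact h.symm
  obtain ⟨i, hi⟩ := Subgroup.mem_zpowers_iff.1 hc
  obtain ⟨k, hk⟩ : ∃ k : ℕ, H.z ^ i = H.z ^ k :=
    ⟨(i % 11).toNat, by
      rw [← zpow_natCast, Int.toNat_of_nonneg (Int.emod_nonneg i (by norm_num))]
      exact zpow_eq_zpow_emod' i H.hz⟩
  obtain ⟨h1, h2⟩ := H.co_eq (g := H.cjU n ⟨H.z, H.z_mem⟩) (a := 0) (b := 0) (c := k)
    (by rw [← hi, hk, H.z_eq])
  simp [h1, h2]

/-- The action on the quotient by the centre. -/
noncomputable def actMat (n : normalizer (H.U : Set G)) : Matrix (Fin 2) (Fin 2) (ZMod 11) :=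
  !![H.coA (H.cjU n H.uU), H.coA (H.cjU n H.xU); H.coB (H.cjU n H.uU), H.coB (H.cjU n H.xU)]

theorem actMat_apply (n : normalizer (H.U : Set G)) (g : H.U) :
    H.coA (H.cjU n g) = H.coA (H.cjU n H.uU) * H.coA g + H.coA (H.cjU n H.xU) * H.coB g ∧
    H.coB (H.cjU n g) = H.coB (H.cjU n H.uU) * H.coA g + H.coB (H.cjU n H.xU) * H.coB g := by
  obtain ⟨_, a, b, c, rfl⟩ := g
  have e : (⟨H.el a b c, H.el_mem a b c⟩ : H.U) = H.uU ^ a * H.xU ^ b * (⟨H.z, H.z_mem⟩ : H.U) ^ c :=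
    Subtype.ext (by simp [el, uU, xU])
  obtain ⟨h1, h2⟩ := H.co_eq (g := (⟨H.el a b c, H.el_mem a b c⟩ : H.U)) rfl
  obtain ⟨z1, z2⟩ := H.co_cjU_z n
  rw [h1, h2, e, H.cjU_mul, H.cjU_mul, H.cjU_pow, H.cjU_pow, H.cjU_pow]
  simp only [(H.co_mul _ _).1, (H.co_mul _ _).2, (H.co_pow _ _).1, (H.co_pow _ _).2, z1, z2]
  exact ⟨by ring, by ring⟩

/-- The action as a homomorphism. -/
noncomputable def actHom : normalizer (H.U : Set G) →* Matrix (Fin 2) (Fin 2) (ZMod 11) where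
  toFun := H.actMat
  map_one' := by
    have e : ∀ g, H.cjU 1 g = g := fun g => Subtype.ext (by simp [cjU])
    obtain ⟨h1, h2⟩ := H.co_eq (g := H.uU) (a := 1) (b := 0) (c := 0) H.u_eq
    obtain ⟨h3, h4⟩ := H.co_eq (g := H.xU) (a := 0) (b := 1) (c := 0) H.x_eq
    rw [actMat, e, e, h1, h2, h3, h4, Matrix.one_fin_two]
    simp
  map_mul' n m := by
    have e : ∀ g, H.cjU (n * m) g = H.cjU n (H.cjU m g) := fun g => Subtype.ext (by simp [cjU, mul_assoc])
    obtain ⟨h1, h2⟩ := H.actMat_apply n (H.cjU m H.uU)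
    obtain ⟨h3, h4⟩ := H.actMat_apply n (H.cjU m H.xU)
    simp only [actMat, Matrix.mul_fin_two, e, h1, h2, h3, h4]

theorem ker_order {n : normalizer (H.U : Set G)} (hn : H.actHom n = 1) {q : ℕ} (hq : q.Prime) (hq11 : q ≠ 11)
    (hord : orderOf (n : G) = q) : H.U ≤ centralizer {(n : G)} := by
  have h : ∀ i j : Fin 2, H.actMat n i j = (1 : Matrix (Fin 2) (Fin 2) (ZMod 11)) i j := fun i j => congrFun₂ hn i j
  have h00 := h 0 0
  have h10 := h 1 0
  have h01 := h 0 1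
  have h11 := h 1 1
  simp [actMat] at h00 h10 h01 h11
  have hfix : ∀ (g : H.U) (a b : ℕ), a < 11 → b < 11 → (g : G) = H.el a b 0 →
      H.coA (H.cjU n g) = (a : ZMod 11) → H.coB (H.cjU n g) = (b : ZMod 11) →
      ∃ i : ℕ, (n : G) * g * (n : G)⁻¹ = g * H.z ^ i := by
    intro g a b ha hb hg h1 h2
    obtain ⟨a', b', c', he⟩ := (H.cjU n g).2
    obtain ⟨k1, k2⟩ := H.co_eq he
    rw [k1, ZMod.natCast_eq_natCast_iff'] at h1
    rw [k2, ZMod.natCast_eq_natCast_iff'] at h2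
    refine ⟨c', ?_⟩
    rw [show (n : G) * g * (n : G)⁻¹ = H.el a' b' c' from he, hg, H.z_eq, H.el_mul, H.el_mod]
    rw [H.el_mod (a + 0)]
    congr 1 <;> omega
  obtain ⟨i, hi⟩ := hfix H.uU 1 0 (by norm_num) (by norm_num) H.u_eq (by simpa using h00) (by simpa using h10)
  obtain ⟨j, hj⟩ := hfix H.xU 0 1 (by norm_num) (by norm_num) H.x_eq (by simpa using h01) (by simpa using h11)
  simp only [uU, xU] at hi hj
  -- the central element is fixed
  have hzfix : (n : G) * H.z * (n : G)⁻¹ = H.z := by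
    have h5 : (n : G) * H.z ^ 5 * (n : G)⁻¹ = H.z ^ 5 := by
      have e : (n : G) * (H.x * H.u) * (n : G)⁻¹ = (n : G) * (H.u * H.x * H.z ^ 5) * (n : G)⁻¹ := by rw [H.rel]
      rw [show (n : G) * (H.x * H.u) * (n : G)⁻¹ = ((n : G) * H.x * (n : G)⁻¹) * ((n : G) * H.u * (n : G)⁻¹) by group,
        show (n : G) * (H.u * H.x * H.z ^ 5) * (n : G)⁻¹ = ((n : G) * H.u * (n : G)⁻¹) * ((n : G) * H.x * (n : G)⁻¹) *
          ((n : G) * H.z ^ 5 * (n : G)⁻¹) by group, hi, hj] at e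
      have e2 : H.x * H.z ^ j * (H.u * H.z ^ i) = H.u * H.z ^ i * (H.x * H.z ^ j) * H.z ^ 5 := by
        rw [H.x_eq, H.u_eq, H.z_eq, H.z_eq, H.z_eq, H.el_mul, H.el_mul, H.el_mul, H.el_mul, H.el_mul]
        congr 1
        ring
      rw [e2] at e
      exact (mul_left_cancel e).symm
    have h9 := congrArg (· ^ 9) h5
    simp only [conj_pow, ← pow_mul] at h9
    rwa [pow_eq_pow_mod _ H.hz, show 5 * 9 % 11 = 1 from rfl, pow_one] at h9
  have hpow : ∀ (g : G) (i : ℕ), (n : G) * g * (n : G)⁻¹ = g * H.z ^ i →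
      ∀ k : ℕ, (n : G) ^ k * g * ((n : G) ^ k)⁻¹ = g * H.z ^ (k * i) := by
    intro g i hg k
    induction k with
    | zero => simp
    | succ k ih =>
      rw [pow_succ', show (n : G) * (n : G) ^ k * g * ((n : G) * (n : G) ^ k)⁻¹ =
        (n : G) * ((n : G) ^ k * g * ((n : G) ^ k)⁻¹) * (n : G)⁻¹ by group, ih,
        show (n : G) * (g * H.z ^ (k * i)) * (n : G)⁻¹ =
          ((n : G) * g * (n : G)⁻¹) * ((n : G) * H.z ^ (k * i) * (n : G)⁻¹) by group, hg, ← conj_pow, hzfix,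
        mul_assoc, ← pow_add]
      ring_nf
  have hfixed : ∀ (g : G) (i : ℕ), (n : G) * g * (n : G)⁻¹ = g * H.z ^ i → (n : G) * g = g * n := by
    intro g i hg
    have := hpow g i hg q
    rw [← hord, pow_orderOf_eq_one, hord] at this
    simp only [one_mul, inv_one, mul_one] at this
    have hd : 11 ∣ q * i := H.z_pow_eq_one.1 (mul_eq_left.1 this.symm)
    rcases (Nat.Prime.dvd_mul (by norm_num : Nat.Prime 11)).1 hd with h' | h'
    · exact absurd ((Nat.prime_dvd_prime_iff_eq (by norm_num) hq).1 h').symm hq11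
    · rw [H.z_pow_eq_one.2 h', mul_one] at hg
      rw [← mul_inv_eq_iff_eq_mul, hg]
  rintro _ ⟨a, b, c, rfl⟩
  rw [mem_centralizer_singleton_iff]
  have hz' : Commute (n : G) H.z := by
    show (n : G) * H.z = H.z * n
    rw [← mul_inv_eq_iff_eq_mul, hzfix]
  exact ((((show Commute (n : G) H.u from hfixed _ _ hi).pow_right a).mul_right
    ((show Commute (n : G) H.x from hfixed _ _ hj).pow_right b)).mul_right (hz'.pow_right c)).eq.symm

theorem card_normalizer_dvd [Finite G]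
    (hcent : ∀ q : ℕ, q.Prime → q ≠ 11 → ∀ n : G, orderOf n = q → ¬ H.U ≤ centralizer {n})
    (hT : Nat.card G = 86775571046077562880) :
    Nat.card (normalizer (H.U : Set G)) ∣ 319440 := by
  haveI : Fact (Nat.Prime 11) := ⟨by norm_num⟩
  let θ := H.actHom.toHomUnits
  have hker : IsPGroup 11 θ.ker := by
    rintro ⟨n, hn⟩
    obtain ⟨k, hk⟩ : ∃ k, orderOf n = 11 ^ k := by
      refine ⟨_, Nat.eq_prime_pow_of_unique_prime_dvd (orderOf_pos n).ne' fun {q} hq hqd => ?_⟩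
      by_contra hne
      set m := n ^ (orderOf n / q) with hm
      have hmo : orderOf m = q := orderOf_pow_orderOf_div (orderOf_pos n).ne' hqd
      have hm1 : H.actHom m = 1 := by
        have h1 : θ m = 1 := by rw [hm, map_pow, MonoidHom.mem_ker.1 hn, one_pow]
        simpa [θ] using congrArg Units.val h1
      exact hcent q hq hne (m : G) (by rw [Subgroup.orderOf_coe, hmo]) (H.ker_order hm1 hq hne
        (by rw [Subgroup.orderOf_coe, hmo]))
    exact ⟨k, Subtype.ext (by rw [← hk]; simpa using pow_orderOf_eq_one n)⟩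
  obtain ⟨k, hk⟩ := hker.exists_card_eq
  have h1 : Nat.card (normalizer (H.U : Set G)) = Nat.card θ.range * 11 ^ k := by
    rw [← hk, Subgroup.card_eq_card_quotient_mul_card_subgroup θ.ker,
      Nat.card_congr (QuotientGroup.quotientKerEquivRange θ).toEquiv]
  have hN : Nat.card (normalizer (H.U : Set G)) ∣ 86775571046077562880 := hT ▸ card_subgroup_dvd_card _
  have hk3 : k ≤ 3 := by
    by_contra hlt
    have := (pow_dvd_pow 11 (show 4 ≤ k by omega)).trans ((dvd_mul_left _ _).trans (h1 ▸ hN))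
    norm_num at this
  have hGL : Nat.card (GL (Fin 2) (ZMod 11)) = 13200 := by
    rw [Matrix.card_GL_field]
    simp [Fin.prod_univ_two]
  have h2 : Nat.card (normalizer (H.U : Set G)) ∣ 13200 * 11 ^ 3 := by
    rw [h1]
    exact Nat.mul_dvd_mul (hGL ▸ card_subgroup_dvd_card θ.range) (pow_dvd_pow 11 hk3)
  have h3 := Nat.dvd_gcd h2 hN
  norm_num at h3
  exact h3

end Heis

end Cfsg.Lib.J4Eleven
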