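import Cfsg.Agent.J4Eleven.GL
import Cfsg.Agent.J4Eleven.Normalizer
import Mathlib.GroupTheory.Sylow

/-!
The Sylow 11-subgroup of the presented group, its normaliser and the elements of order 11.
-/

set_option autoImplicit false
set_option maxRecDepth 8000
set_option synthInstance.maxSize 4000

namespace Cfsg.Lib.J4Eleven

open Cfsg Cfsg.Lib.J4Cert Subgroup

/-- The reachable classes of nonzero vectors of the quotient by the centre. -/
def reachV : ℕ → List (ℕ × ℕ)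
  | 0 => [(1, 0)]
  | n + 1 => ((reachV n).flatMap fun v => v :: gAct.map fun e =>
      ((v.1 * e.1.1 + v.2 * e.2.1.1) % 11, (v.1 * e.1.2.1 + v.2 * e.2.1.2.1) % 11)).dedup

theorem reach_ok : ∀ a < 11, ∀ b < 11, a + b ≠ 0 → (a, b) ∈ reachV 10 := by decide +kernel

theorem adjust_ok : ∀ a < 11, ∀ b < 11, a + b ≠ 0 → ∀ c < 11, ∃ p < 11, ∃ q < 11,
    (c + 5 * b * p) % 11 = 5 * q * a % 11 := by decide +kernel

theorem reach_ne : ∀ n < 11, ∀ v ∈ reachV n, v.1 + v.2 ≠ 0 := by decide +kernel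

attribute [local irreducible] mB mPow em mU mX mZ mG mEl trPar

/-- The first generator. -/
noncomputable def eU : Spor.J4 := (em_mem 291 (by norm_num)).choose
/-- The second generator. -/
noncomputable def eX : Spor.J4 := (em_mem 172 (by norm_num)).choose
/-- The central element. -/
noncomputable def eZ : Spor.J4 := (em_mem 490 (by norm_num)).choose

theorem eU_ok : MOK eU mU := by unfold mU; exact (em_mem 291 (by norm_num)).choose_spec
theorem eX_ok : MOK eX mX := by unfold mX; exact (em_mem 172 (by norm_num)).choose_spec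
theorem eZ_ok : MOK eZ mZ := by unfold mZ; exact (em_mem 490 (by norm_num)).choose_spec

theorem npow_ok {g : Spor.J4} {A : List ℕ} (h : MOK g A) : ∀ n, MOK (g ^ n) (mPow A n)
  | 0 => by unfold mPow; rw [pow_zero]; exact MOK.one
  | n + 1 => by unfold mPow; rw [pow_succ']; exact h.mul (npow_ok h n)

theorem heis_checks : eU ^ 11 = 1 ∧ eX ^ 11 = 1 ∧ eZ ^ 11 = 1 ∧ eZ ≠ 1 ∧ Commute eZ eU ∧ Commute eZ eX ∧
    eX * eU = eU * eX * eZ ^ 5 := by
  have h := heis_ok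
  simp only [heisOK, Bool.and_eq_true, Bool.not_eq_true'] at h
  obtain ⟨⟨⟨⟨⟨⟨h1, h2⟩, h3⟩, h4⟩, h5⟩, h6⟩, h7⟩ := h
  exact ⟨eq_of_leq (npow_ok eU_ok _) MOK.one h1, eq_of_leq (npow_ok eX_ok _) MOK.one h2,
    eq_of_leq (npow_ok eZ_ok _) MOK.one h3, ne_one_of eZ_ok h4, eq_of_leq (eZ_ok.mul eU_ok) (eU_ok.mul eZ_ok) h5,
    eq_of_leq (eZ_ok.mul eX_ok) (eX_ok.mul eZ_ok) h6,
    eq_of_leq (eX_ok.mul eU_ok) ((eU_ok.mul eX_ok).mul (npow_ok eZ_ok _)) h7⟩

/-- The relations in the presented group. -/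
noncomputable def hJ4 : Heis Spor.J4 :=
  ⟨eU, eX, eZ, heis_checks.1, heis_checks.2.1, heis_checks.2.2.1, heis_checks.2.2.2.1, heis_checks.2.2.2.2.1,
    heis_checks.2.2.2.2.2.1, heis_checks.2.2.2.2.2.2⟩

theorem el_ok (t : ℕ × ℕ × ℕ) : MOK (hJ4.el t.1 t.2.1 t.2.2) (mEl t) := by
  unfold mEl
  exact ((npow_ok eU_ok _).mul (npow_ok eX_ok _)).mul (npow_ok eZ_ok _)

/-- The data of a normalising element. -/
def actOf (i : Fin 3) : (ℕ × ℕ × ℕ) × (ℕ × ℕ × ℕ) × ℕ := gAct.getD i.val ((0, 0, 0), (0, 0, 0), 0)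

theorem eG_act (i : Fin 3) :
    eG i * eU * (eG i)⁻¹ = hJ4.el (actOf i).1.1 (actOf i).1.2.1 (actOf i).1.2.2 ∧
    eG i * eX * (eG i)⁻¹ = hJ4.el (actOf i).2.1.1 (actOf i).2.1.2.1 (actOf i).2.1.2.2 ∧
    eG i * eZ * (eG i)⁻¹ = eZ ^ (actOf i).2.2 := by
  have h := norm_ok
  simp only [normOK, Bool.and_eq_true, List.all_eq_true] at h
  have hlen : gAct.length = 3 := rfl
  have hm : (actOf i, i.val) ∈ gAct.zipIdx := List.mem_iff_getElem.2 ⟨i.val, by simp [hlen, i.2], by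
    rw [List.getElem_zipIdx, Nat.zero_add, actOf, List.getD_eq_getElem _ _ (show i.val < gAct.length from hlen.symm ▸ i.2)]⟩
  obtain ⟨⟨h1, h2⟩, h3⟩ := h _ hm
  refine ⟨?_, ?_, ?_⟩ <;> rw [mul_inv_eq_iff_eq_mul]
  · exact eq_of_leq ((eG_ok i).mul eU_ok) ((el_ok _).mul (eG_ok i)) h1
  · exact eq_of_leq ((eG_ok i).mul eX_ok) ((el_ok _).mul (eG_ok i)) h2
  · exact eq_of_leq ((eG_ok i).mul eZ_ok) ((npow_ok eZ_ok _).mul (eG_ok i)) h3

theorem eG_el (i : Fin 3) (a b c : ℕ) : ∃ c', eG i * hJ4.el a b c * (eG i)⁻¹ =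
    hJ4.el (a * (actOf i).1.1 + b * (actOf i).2.1.1) (a * (actOf i).1.2.1 + b * (actOf i).2.1.2.1) c' := by
  obtain ⟨h1, h2, h3⟩ := eG_act i
  show ∃ c', eG i * (eU ^ a * eX ^ b * eZ ^ c) * (eG i)⁻¹ = _
  rw [show eG i * (eU ^ a * eX ^ b * eZ ^ c) * (eG i)⁻¹ =
    (eG i * eU ^ a * (eG i)⁻¹) * (eG i * eX ^ b * (eG i)⁻¹) * (eG i * eZ ^ c * (eG i)⁻¹) by group,
    ← conj_pow, ← conj_pow, ← conj_pow, h1, h2, h3, ← pow_mul, hJ4.el_pow, hJ4.el_pow,
    show eZ ^ ((actOf i).2.2 * c) = hJ4.el 0 0 ((actOf i).2.2 * c) from hJ4.z_eq _, hJ4.el_mul, hJ4.el_mul,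
    add_zero, add_zero]
  exact ⟨_, rfl⟩

theorem eG_mem (i : Fin 3) : eG i ∈ normalizer (hJ4.U : Set Spor.J4) := by
  haveI := finite_J4
  have hle : hJ4.U.map (MulAut.conj (eG i)).toMonoidHom ≤ hJ4.U := by
    rintro _ ⟨_, ⟨a, b, c, rfl⟩, rfl⟩
    obtain ⟨c', e⟩ := eG_el i a b c
    exact ⟨_, _, c', e⟩
  have he := Subgroup.eq_of_le_of_card_ge hle
    (le_of_eq (Subgroup.card_map_of_injective (f := (MulAut.conj (eG i)).toMonoidHom) (MulAut.conj (eG i)).injective).symm)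
  rw [mem_normalizer_iff]
  intro x
  constructor
  · exact fun hx => hle ⟨x, hx, rfl⟩
  · intro hx
    obtain ⟨y, hy, e⟩ : eG i * x * (eG i)⁻¹ ∈ hJ4.U.map (MulAut.conj (eG i)).toMonoidHom := he.symm ▸ hx
    rwa [← (MulAut.conj (eG i)).injective (show MulAut.conj (eG i) y = MulAut.conj (eG i) x from e)]

theorem not_pow_four : ¬ 11 ^ 4 ∣ 86775571046077562880 := by decide +kernel

/-- The Sylow subgroup. -/
theorem exists_sylow : ∃ S : Sylow 11 Spor.J4, (S : Subgroup Spor.J4) = hJ4.U := by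
  haveI := finite_J4
  haveI : Fact (Nat.Prime 11) := ⟨by norm_num⟩
  obtain ⟨S, hS⟩ := (IsPGroup.of_card (p := 11) (n := 3) (by rw [hJ4.card_U]; norm_num) : IsPGroup 11 hJ4.U).exists_le_sylow
  refine ⟨S, (Subgroup.eq_of_le_of_card_ge hS ?_).symm⟩
  obtain ⟨k, hk⟩ := S.2.exists_card_eq
  rw [hk, hJ4.card_U]
  by_contra hlt
  have h4 : 4 ≤ k := by
    by_contra hk4
    exact hlt ((Nat.pow_le_pow_right (by norm_num) (show k ≤ 3 by omega)).trans (by norm_num))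
  exact not_pow_four ((pow_dvd_pow 11 h4).trans (hk ▸ card_J4.1 ▸ card_subgroup_dvd_card _))

/-- The normaliser: a copy of GL(2,3) inside it and the order. -/
theorem normalizer_data
    (hcent : ∀ q : ℕ, q.Prime → q ≠ 11 → ∀ n : Spor.J4, orderOf n = q → ¬ hJ4.U ≤ centralizer {n}) :
    Nat.card (normalizer (hJ4.U : Set Spor.J4)) = 319440 ∧
    ∃ K : Subgroup Spor.J4, K ≤ normalizer (hJ4.U : Set Spor.J4) ∧ Nonempty (K ≃* GL (Fin 2) (ZMod 3)) := by
  haveI := finite_J4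
  haveI : Fact (Nat.Prime 5) := ⟨by norm_num⟩
  obtain ⟨φ, hφ, hle⟩ := exists_glHom
  have hK : φ.range ≤ normalizer (hJ4.U : Set Spor.J4) := hle _ (eG_mem 0) (eG_mem 1)
  refine ⟨Nat.dvd_antisymm (hJ4.card_normalizer_dvd hcent card_J4.1) ?_, φ.range, hK,
    ⟨(MonoidHom.ofInjective hφ).symm⟩⟩
  have h1 : 1331 ∣ Nat.card (normalizer (hJ4.U : Set Spor.J4)) := hJ4.card_U ▸ card_dvd_of_le le_normalizer
  have h2 : 48 ∣ Nat.card (normalizer (hJ4.U : Set Spor.J4)) := by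
    refine dvd_trans (dvd_of_eq ?_) (card_dvd_of_le hK)
    rw [← Nat.card_congr (MonoidHom.ofInjective hφ).toEquiv, Matrix.card_GL_field]
    simp [Fin.prod_univ_two]
  have h3 : 5 ∣ Nat.card (normalizer (hJ4.U : Set Spor.J4)) := by
    have h := five_ok
    simp only [fiveOK, Bool.and_eq_true, Bool.not_eq_true'] at h
    have ho : orderOf (eG 2) = 5 :=
      orderOf_eq_prime (eq_of_leq (npow_ok (eG_ok 2) 5) MOK.one h.1) (ne_one_of (eG_ok 2) h.2)
    rw [← ho, ← Nat.card_zpowers]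
    exact card_dvd_of_le (zpowers_le.2 (eG_mem 2))
  exact Nat.Coprime.mul_dvd_of_dvd_of_dvd (m := 48 * 1331) (n := 5) (by norm_num)
    (Nat.Coprime.mul_dvd_of_dvd_of_dvd (by norm_num) h2 h1) h3

theorem z_pow_conj : ∀ r < 11, r ≠ 0 → IsConj eZ (eZ ^ r) := by
  have step : ∀ (i : Fin 3) {r : ℕ}, IsConj eZ (eZ ^ r) → IsConj eZ (eZ ^ ((actOf i).2.2 * r % 11)) := by
    intro i r h
    refine h.trans (isConj_iff.2 ⟨eG i, ?_⟩)
    rw [← conj_pow, (eG_act i).2.2, ← pow_mul]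
    exact pow_eq_pow_mod _ heis_checks.2.2.1
  have h1 : IsConj eZ (eZ ^ 1) := by rw [pow_one]
  have h5 : IsConj eZ (eZ ^ 5) := step 2 h1
  have h3 : IsConj eZ (eZ ^ 3) := step 2 h5
  have h4 : IsConj eZ (eZ ^ 4) := step 2 h3
  have h9 : IsConj eZ (eZ ^ 9) := step 2 h4
  intro r hr hr0
  interval_cases r
  · exact absurd rfl hr0
  · exact h1
  · exact step 0 h9
  · exact h3
  · exact h4
  · exact h5
  · exact step 0 h5
  · exact step 0 h4
  · exact step 0 h3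
  · exact h9
  · exact step 0 h1

theorem el_conj_flat {a b : ℕ} (ha : a < 11) (hb : b < 11) (h0 : a + b ≠ 0) (c : ℕ) :
    IsConj (hJ4.el a b 0) (hJ4.el a b c) := by
  obtain ⟨p, -, q, -, e⟩ := adjust_ok a ha b hb h0 (c % 11) (Nat.mod_lt _ (by norm_num))
  refine IsConj.symm ?_
  refine isConj_iff.2 ⟨(hJ4.el p q 0)⁻¹, ?_⟩
  rw [inv_inv, mul_assoc, inv_mul_eq_iff_eq_mul, hJ4.el_mul, hJ4.el_mul, hJ4.el_mod]
  rw [hJ4.el_mod (p + a)]
  congr 1 <;> omega

theorem reach_conj : ∀ n < 11, ∀ v ∈ reachV n, v.1 < 11 ∧ v.2 < 11 ∧ IsConj eU (hJ4.el v.1 v.2 0)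
  | 0, _, v, hv => by
    obtain rfl : v = (1, 0) := by simpa [reachV] using hv
    exact ⟨by norm_num, by norm_num, by rw [show eU = hJ4.u from rfl, hJ4.u_eq]⟩
  | n + 1, hn, v, hv => by
    have hne := reach_ne (n + 1) hn v hv
    simp only [reachV, List.mem_dedup, List.mem_flatMap, List.mem_cons, List.mem_map] at hv
    obtain ⟨w, hw, rfl | ⟨e, he, rfl⟩⟩ := hv
    · exact reach_conj n (by omega) v hw
    · obtain ⟨hw1, hw2, hc⟩ := reach_conj n (by omega) w hw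
      refine ⟨Nat.mod_lt _ (by norm_num), Nat.mod_lt _ (by norm_num), hc.trans ?_⟩
      obtain ⟨j, hj, rfl⟩ := List.getElem_of_mem he
      have hj3 : j < 3 := hj
      obtain ⟨c', hc'⟩ := eG_el ⟨j, hj3⟩ w.1 w.2 0
      rw [show actOf ⟨j, hj3⟩ = gAct[j] from List.getD_eq_getElem _ _ hj] at hc'
      have h1 := isConj_iff.2 ⟨eG ⟨j, hj3⟩, hc'⟩
      refine h1.trans ?_
      rw [hJ4.el_mod]
      exact (el_conj_flat (Nat.mod_lt _ (by norm_num)) (Nat.mod_lt _ (by norm_num)) hne _).symm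

theorem matG_trace {g : Spor.J4} {A : List ℕ} (h : MOK g A) : Matrix.trace (matG g) = trPar A := by
  have hl : A.length = 112 := by
    have := h.1
    simp only [okMat, Bool.and_eq_true] at this
    exact Nat.eq_of_beq_eq_true this.1
  unfold trPar
  simp only [Matrix.trace, Matrix.diag_apply, matG, Matrix.of_apply]
  refine Finset.sum_congr rfl fun i _ => ?_
  rw [h.2, ← va_unit A i.val (hl.symm ▸ i.2)]
  rfl

theorem matG_trace_conj {g h : Spor.J4} (hc : IsConj g h) : Matrix.trace (matG g) = Matrix.trace (matG h) := by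
  obtain ⟨c, rfl⟩ := isConj_iff.1 hc
  rw [matG_mul, Matrix.trace_mul_comm, ← matG_mul]
  congr 2
  group

/-- The two classes of elements of order 11. -/
theorem two_classes : orderOf eX = 11 ∧ orderOf eZ = 11 ∧ ¬ IsConj eX eZ ∧
    ∀ g : Spor.J4, orderOf g = 11 → IsConj g eX ∨ IsConj g eZ := by
  haveI := finite_J4
  haveI : Fact (Nat.Prime 11) := ⟨by norm_num⟩
  have hflat : ∀ a < 11, ∀ b < 11, a + b ≠ 0 → IsConj eU (hJ4.el a b 0) := fun a ha b hb h =>
    (reach_conj 10 (by norm_num) _ (reach_ok a ha b hb h)).2.2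
  have hUX : IsConj eU eX := by
    have := hflat 0 (by norm_num) 1 (by norm_num) (by norm_num)
    rwa [← hJ4.x_eq] at this
  have hne : ¬ IsConj eX eZ := fun h => by
    have h1 := matG_trace_conj h
    rw [matG_trace eX_ok, matG_trace eZ_ok, trace_ok.1, trace_ok.2] at h1
    exact zero_ne_one h1
  refine ⟨orderOf_eq_prime heis_checks.2.1 ?_, orderOf_eq_prime heis_checks.2.2.1 heis_checks.2.2.2.1, hne,
    fun g hg => ?_⟩
  · intro h
    have h1 : hJ4.el 0 1 0 = 1 := by rw [← hJ4.x_eq]; exact h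
    have := (hJ4.el_eq_one.1 h1).2.1
    norm_num at this
  · obtain ⟨S, hS⟩ := exists_sylow
    obtain ⟨T, hT⟩ := (IsPGroup.of_card (p := 11) (n := 1) (by rw [Nat.card_zpowers, hg, pow_one]) :
      IsPGroup 11 (zpowers g)).exists_le_sylow
    obtain ⟨k, hk⟩ := MulAction.exists_smul_eq Spor.J4 T S
    have hmem : MulAut.conj k g ∈ ((k • T : Sylow 11 Spor.J4) : Subgroup Spor.J4) := by
      rw [Sylow.coe_subgroup_smul]
      exact Subgroup.smul_mem_pointwise_smul g (MulAut.conj k) _ (hT (mem_zpowers g))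
    rw [hk, hS] at hmem
    obtain ⟨a, b, c, e⟩ := hmem
    have hgc : IsConj g (hJ4.el (a % 11) (b % 11) (c % 11)) := by
      rw [← hJ4.el_mod]
      exact isConj_iff.2 ⟨k, e⟩
    by_cases h0 : a % 11 + b % 11 = 0
    · refine Or.inr (hgc.trans ?_)
      rw [Nat.eq_zero_of_add_eq_zero_right h0, Nat.eq_zero_of_add_eq_zero_left h0] at hgc ⊢
      rw [← hJ4.z_eq] at hgc ⊢
      by_cases hc : c % 11 = 0
      · exfalso
        obtain ⟨m, hm⟩ := isConj_iff.1 hgc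
        rw [hc, pow_zero] at hm
        rw [show g = 1 by
          calc g = m⁻¹ * (m * g * m⁻¹) * m := by group
            _ = 1 := by rw [hm]; group, orderOf_one] at hg
        norm_num at hg
      · exact (z_pow_conj _ (Nat.mod_lt _ (by norm_num)) hc).symm
    · exact Or.inl ((hgc.trans (el_conj_flat (Nat.mod_lt _ (by norm_num)) (Nat.mod_lt _ (by norm_num)) h0 _).symm).trans
        ((hflat _ (Nat.mod_lt _ (by norm_num)) _ (Nat.mod_lt _ (by norm_num)) h0).symm.trans hUX))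

end Cfsg.Lib.J4Eleven
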