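import Cfsg.Agent.JankoFour.BigPrimes.NoSmall
import Cfsg.Agent.JankoFour.BigPrimes.Main
import Cfsg.Agent.J4Eleven.Main

/-!
The square of 11 divides no centraliser of an element of another prime order; transport to a group of Janko-four type.
-/

set_option autoImplicit false
set_option maxRecDepth 100000
set_option linter.style.haveILetI false

namespace Cfsg.Lib.J4Eleven

open Subgroup Cfsg Cfsg.Lib.JankoFour.BigPrimes

variable {G : Type*} [Group G] [Finite G]

theorem eleven_sq_not_dvd : ¬ 121 ∣ 8192 * 2661120 ∧ ¬ 121 ∣ 887040 * 2048 ∧ ¬ 121 ∣ 2 ^ 8 * 3 * 5 * 7 ∧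
    ¬ 121 ∣ 2 ^ 3 * 3 ^ 2 * 5 * 7 ∧
    (∀ r ∈ [2, 3, 5, 7, 11, 23, 29, 31, 37, 43], r ∈ [2, 3, 5, 7, 11] ∨ r ∈ PS) ∧
    ∀ r ∈ [23, 29, 31, 37, 43], ¬ 121 ∣ r := by decide +kernel

theorem prime_dvd_T {q : ℕ} (hq : q.Prime) (h : q ∣ 86775571046077562880) :
    q ∈ [2, 3, 5, 7, 11, 23, 29, 31, 37, 43] := by
  rw [show (86775571046077562880 : ℕ) = 2 ^ 21 * 3 ^ 3 * 5 * 7 * 11 ^ 3 * 23 * 29 * 31 * 37 * 43 by norm_num] at h
  simp only [hq.dvd_mul] at h
  have hp : ∀ {r k : ℕ}, r.Prime → q ∣ r ^ k → q = r := fun hr hd => (Nat.prime_dvd_prime_iff_eq hq hr).1 (hq.dvd_of_dvd_pow hd)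
  have h1 : ∀ {r : ℕ}, r.Prime → q ∣ r → q = r := fun hr hd => (Nat.prime_dvd_prime_iff_eq hq hr).1 hd
  simp only [List.mem_cons, List.not_mem_nil, or_false]
  rcases h with ((((((((h | h) | h) | h) | h) | h) | h) | h) | h) | h
  · exact Or.inl (hp (by norm_num) h)
  · exact Or.inr (Or.inl (hp (by norm_num) h))
  · exact Or.inr (Or.inr (Or.inl (h1 (by norm_num) h)))
  · exact Or.inr (Or.inr (Or.inr (Or.inl (h1 (by norm_num) h))))
  · exact Or.inr (Or.inr (Or.inr (Or.inr (Or.inl (hp (by norm_num) h)))))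
  · exact Or.inr (Or.inr (Or.inr (Or.inr (Or.inr (Or.inl (h1 (by norm_num) h))))))
  · exact Or.inr (Or.inr (Or.inr (Or.inr (Or.inr (Or.inr (Or.inl (h1 (by norm_num) h)))))))
  · exact Or.inr (Or.inr (Or.inr (Or.inr (Or.inr (Or.inr (Or.inr (Or.inl (h1 (by norm_num) h))))))))
  · exact Or.inr (Or.inr (Or.inr (Or.inr (Or.inr (Or.inr (Or.inr (Or.inr (Or.inl (h1 (by norm_num) h)))))))))
  · exact Or.inr (Or.inr (Or.inr (Or.inr (Or.inr (Or.inr (Or.inr (Or.inr (Or.inr (h1 (by norm_num) h)))))))))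

theorem cent_eleven [IsSimpleGroup G] (hG : ¬ IsMulCommutative G) (hJ : Cfsg.IsOfJankoFourType G)
    (e : G ≃* Spor.J4) {q : ℕ} (hq : q.Prime) (hq11 : q ≠ 11) {a : G} (ha : orderOf a = q) :
    ¬ 121 ∣ Nat.card ↥(centralizer ({a} : Set G)) := by
  classical
  obtain ⟨nH, nT, n5, n7, hcases, nP⟩ := eleven_sq_not_dvd
  have hcard : Nat.card G = 86775571046077562880 := (Nat.card_congr e.toEquiv).trans Cfsg.Lib.J4Cert.card_J4.1
  intro hdvd
  rcases hcases q (prime_dvd_T hq (hcard ▸ ha ▸ orderOf_dvd_natCard a)) with hr | hp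
  · obtain ⟨z, hz⟩ := hJ
    have hz' := hz
    obtain ⟨P, hP⟩ := hz'
    obtain ⟨C⟩ := Cfsg.Lib.JankoFour.exists_ctx hP
    simp only [List.mem_cons, List.not_mem_nil, or_false] at hr
    rcases hr with rfl | rfl | rfl | rfl | rfl
    · obtain ⟨v, hv, hconj⟩ := C.to_V hG (g := a) (by rw [← pow_two, ← ha, pow_orderOf_eq_one])
      rw [card_cent_conj hconj] at hdvd
      by_cases hzv : IsConj z v
      · rw [← card_cent_conj hzv, C.cardH] at hdvd
        exact nH hdvd
      · have hvo : orderOf v = 2 := by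
          obtain ⟨g, rfl⟩ := isConj_iff.mp hconj
          rw [show g * a * g⁻¹ = MulAut.conj g a from rfl, MulEquiv.orderOf_eq, ha]
        obtain ⟨V, K, hVC, hKC, hCN, -, hVcard, -, hsup, ⟨f⟩⟩ := Cfsg.Agent.S5569.result hG z hz v hvo hzv
        haveI : (V.subgroupOf (centralizer ({v} : Set G))).Normal :=
          (normal_subgroupOf_iff_le_normalizer hVC).mpr hCN
        let π := (QuotientGroup.mk' (V.subgroupOf (centralizer ({v} : Set G)))).comp (Subgroup.inclusion hKC)
        have hπ : Function.Surjective π := by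
          intro x
          obtain ⟨⟨c, hc⟩, rfl⟩ := QuotientGroup.mk'_surjective _ x
          have hc' : c ∈ ((K ⊔ V : Subgroup G) : Set G) := by rw [hsup]; exact hc
          rw [coe_mul_of_left_le_normalizer_right K V (hKC.trans hCN)] at hc'
          obtain ⟨k, hk, w, hw, rfl⟩ := Set.mem_mul.mp hc'
          refine ⟨⟨k, hk⟩, QuotientGroup.eq.mpr ?_⟩
          rw [mem_subgroupOf]
          show k⁻¹ * (k * w) ∈ V
          rwa [inv_mul_cancel_left]
        have h1 := (Subgroup.card_dvd_of_surjective π hπ)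
        rw [Nat.card_congr f.toEquiv, Cfsg.Lib.JankoFour.card_aut_M22.1] at h1
        rw [card_eq_card_quotient_mul_card_subgroup (V.subgroupOf (centralizer ({v} : Set G))),
          Nat.card_congr (subgroupOfEquivOfLe hVC).toEquiv, hVcard] at hdvd
        exact nT (hdvd.trans (Nat.mul_dvd_mul h1 (by norm_num)))
    · rw [card_cent_conj (Cfsg.Agent.S5564.result hG ⟨z, hz⟩ a C.p ha C.ord)] at hdvd
      have hle : centralizer ({C.p} : Set G) ≤ centralizer ({z} : Set G) := fun x hx => by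
        refine C.centralizer_P_le hG (C.mem_CP.mpr ?_)
        exact mem_centralizer_singleton_iff.mp hx
      exact nH (hdvd.trans (C.cardH ▸ card_dvd_of_le hle))
    · haveI : Fact (Nat.Prime 5) := ⟨by norm_num⟩
      obtain ⟨b, hb, hbo, e5⟩ := conj_into (r := 5) (by rw [hcard]; decide +kernel) (centralizer ({z} : Set G))
        (by rw [C.cardH]; norm_num) ha
      have h5 := (Cfsg.Agent.S5572.result hG z hz (zpowers b) (by rw [Nat.card_zpowers, hbo]) (zpowers_le.mpr hb)).2.2.2
      rw [e5] at hdvd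
      refine n5 (h5 ▸ hdvd.trans (card_dvd_of_le fun x hx => centralizer_le_normalizer _ (mem_centralizer_iff.mpr ?_)))
      intro y hy
      obtain ⟨i, rfl⟩ := mem_zpowers_iff.mp hy
      exact ((show Commute b x from (mem_centralizer_singleton_iff.mp hx).symm).zpow_left i).eq
    · haveI : Fact (Nat.Prime 7) := ⟨by norm_num⟩
      obtain ⟨b, hb, hbo, e7⟩ := conj_into (r := 7) (by rw [hcard]; decide +kernel) (centralizer ({z} : Set G))
        (by rw [C.cardH]; norm_num) ha
      have h7 := (Cfsg.Agent.S5573.result hG z hz (zpowers b) (by rw [Nat.card_zpowers, hbo]) (zpowers_le.mpr hb)).2.2.2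
      rw [e7] at hdvd
      refine n7 (h7 ▸ hdvd.trans (card_dvd_of_le fun x hx => centralizer_le_normalizer _ (mem_centralizer_iff.mpr ?_)))
      intro y hy
      obtain ⟨i, rfl⟩ := mem_zpowers_iff.mp hy
      exact ((show Commute b x from (mem_centralizer_singleton_iff.mp hx).symm).zpow_left i).eq
    · exact hq11 rfl
  · haveI : Fact q.Prime := ⟨hq⟩
    obtain ⟨S, hS⟩ := (IsPGroup.of_card (p := q) (n := 1) (by rw [Nat.card_zpowers, ha, pow_one]) :
      IsPGroup q (zpowers a)).exists_le_sylow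
    have hSc : Nat.card ↥(S : Subgroup G) = q := sylow_card hcard hp S
    have hSa : (S : Subgroup G) = zpowers a :=
      (eq_of_le_of_card_ge hS (by rw [hSc, Nat.card_zpowers, ha])).symm
    have hC : centralizer ((S : Subgroup G) : Set G) = (S : Subgroup G) := by
      obtain ⟨h23, h29, h31, h37, h43⟩ := of_iso hG hJ e
      simp only [PS, List.mem_cons, List.not_mem_nil, or_false] at hp
      rcases hp with rfl | rfl | rfl | rfl | rfl
      exacts [(h23 S).1, (h29 S).1, (h31 S).1, (h37 S).1, (h43 S).1]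
    have hle : centralizer ({a} : Set G) ≤ (S : Subgroup G) := by
      refine le_trans (fun x hx => ?_) hC.le
      rw [hSa, mem_centralizer_iff]
      intro y hy
      obtain ⟨i, rfl⟩ := mem_zpowers_iff.mp hy
      exact ((show Commute a x from (mem_centralizer_singleton_iff.mp hx).symm).zpow_left i).eq
    have h1 : 121 ∣ q := hSc ▸ hdvd.trans (card_dvd_of_le hle)
    simp only [PS, List.mem_cons, List.not_mem_nil, or_false] at hp
    exact nP q (by simpa [List.mem_cons] using hp) h1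

theorem isExtraspecial_congr {p : ℕ} {A B : Type*} [Group A] [Group B] (f : A ≃* B) (h : Cfsg.IsExtraspecial p A) :
    Cfsg.IsExtraspecial p B := by
  obtain ⟨⟨hp, hf, hd⟩, hc⟩ := h
  have hcen : (center A).map f.toMonoidHom = center B := by
    ext x
    obtain ⟨a, rfl⟩ := f.surjective x
    rw [show (f a ∈ (center A).map f.toMonoidHom) ↔ a ∈ center A from
      Subgroup.mem_map_iff_mem (f := f.toMonoidHom) f.injective, mem_center_iff, mem_center_iff]
    refine ⟨fun h y => ?_, fun h y => f.injective ?_⟩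
    · obtain ⟨b, rfl⟩ := f.surjective y
      rw [← map_mul, ← map_mul, h b]
    · rw [map_mul, map_mul, h (f y)]
  have hder : (_root_.commutator A).map f.toMonoidHom = _root_.commutator B := by
    rw [_root_.commutator_def, _root_.commutator_def, Subgroup.map_commutator,
      Subgroup.map_top_of_surjective f.toMonoidHom f.surjective]
  have hfr : (frattini A).map f.toMonoidHom = frattini B := by
    refine le_antisymm (Subgroup.map_le_iff_le_comap.2 (frattini_le_comap_frattini_of_surjective f.surjective)) ?_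
    have h := frattini_le_comap_frattini_of_surjective (φ := f.symm.toMonoidHom) f.symm.surjective
    intro x hx
    exact ⟨f.symm x, h hx, f.apply_symm_apply x⟩
  refine ⟨⟨hp.of_equiv f, by rw [← hfr, hf, hcen], by rw [← hder, hd, hcen]⟩, ?_⟩
  rw [← hcen, ← hc]
  exact (Nat.card_congr (f.subgroupMap (center A)).toEquiv).symm

theorem hcent_J4 [IsSimpleGroup G] (hG : ¬ IsMulCommutative G) (hJ : Cfsg.IsOfJankoFourType G)
    (e : G ≃* Spor.J4) (q : ℕ) (hq : q.Prime) (hq11 : q ≠ 11) (n : Spor.J4) (hn : orderOf n = q) :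
    ¬ hJ4.U ≤ centralizer {n} := by
  intro hle
  refine cent_eleven hG hJ e hq hq11 (a := e.symm n) (by rw [MulEquiv.orderOf_eq, hn]) ?_
  have h1 : hJ4.U.map e.symm.toMonoidHom ≤ centralizer ({e.symm n} : Set G) := by
    rintro _ ⟨x, hx, rfl⟩
    rw [mem_centralizer_singleton_iff]
    show e.symm x * e.symm n = e.symm n * e.symm x
    rw [← map_mul, ← map_mul, mem_centralizer_singleton_iff.1 (hle hx)]
  have h2 := card_dvd_of_le h1
  rw [card_map_of_injective (f := e.symm.toMonoidHom) e.symm.injective, hJ4.card_U] at h2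
  exact dvd_trans (by norm_num) h2

/-- The Sylow 11-subgroups of a group of Janko-four type. -/
theorem sylow_data [IsSimpleGroup G] (hG : ¬ IsMulCommutative G) (hJ : Cfsg.IsOfJankoFourType G)
    (e : G ≃* Spor.J4) (U : Sylow 11 G) :
    Cfsg.IsExtraspecial 11 ↥(U : Subgroup G) ∧ Nat.card ↥(U : Subgroup G) = 11 ^ 3 ∧
    Monoid.exponent ↥(U : Subgroup G) = 11 ∧
    Nat.card ↥(normalizer ((U : Subgroup G) : Set G)) = 2 ^ 4 * 3 * 5 * 11 ^ 3 ∧
    ∃ K : Subgroup G, K ≤ normalizer ((U : Subgroup G) : Set G) ∧ Nonempty (↥K ≃* GL (Fin 2) (ZMod 3)) := by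
  haveI := Cfsg.Lib.J4Cert.finite_J4
  haveI : Fact (Nat.Prime 11) := ⟨by norm_num⟩
  obtain ⟨hN, K, hK, ⟨f⟩⟩ := normalizer_data (hcent_J4 hG hJ e)
  have hU0 : IsPGroup 11 (hJ4.U.map e.symm.toMonoidHom) :=
    IsPGroup.of_card (n := 3) (by rw [card_map_of_injective (f := e.symm.toMonoidHom) e.symm.injective, hJ4.card_U]; norm_num)
  obtain ⟨S, hS⟩ := hU0.exists_le_sylow
  obtain ⟨g, hg⟩ := MulAction.exists_smul_eq G S U
  obtain ⟨f', hf'⟩ : ∃ f' : Spor.J4 ≃* G, f' = e.symm.trans (MulAut.conj g) := ⟨_, rfl⟩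
  have hUc : Nat.card ↥(U : Subgroup G) = 1331 := by
    obtain ⟨k, hk⟩ := U.2.exists_card_eq
    have h1 : 1331 ∣ Nat.card ↥(S : Subgroup G) := by
      have := card_dvd_of_le hS
      rwa [card_map_of_injective (f := e.symm.toMonoidHom) e.symm.injective, hJ4.card_U] at this
    have h2 : Nat.card ↥(S : Subgroup G) = Nat.card ↥(U : Subgroup G) := by
      rw [← hg, Sylow.coe_subgroup_smul]
      exact (Nat.card_congr ((S : Subgroup G).equivSMul (MulAut.conj g)).toEquiv)
    rw [h2, hk] at h1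
    rw [hk]
    have h3 : 11 ^ k ∣ 86775571046077562880 :=
      hk ▸ ((Nat.card_congr e.toEquiv).trans Cfsg.Lib.J4Cert.card_J4.1) ▸ card_subgroup_dvd_card _
    have : k ≤ 3 := by
      by_contra hlt
      exact not_pow_four ((pow_dvd_pow 11 (show 4 ≤ k by omega)).trans h3)
    have : 3 ≤ k := by
      by_contra hlt
      have h4 := h1.trans (pow_dvd_pow 11 (show k ≤ 2 by omega))
      norm_num at h4
    rw [show k = 3 by omega]
    norm_num
  have hmap : hJ4.U.map f'.toMonoidHom = (U : Subgroup G) := by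
    refine eq_of_le_of_card_ge ?_ ?_
    · rintro _ ⟨x, hx, rfl⟩
      rw [← hg, Sylow.coe_subgroup_smul, hf']
      exact smul_mem_pointwise_smul (e.symm x) (MulAut.conj g) _ (hS ⟨x, hx, rfl⟩)
    · rw [card_map_of_injective (f := f'.toMonoidHom) f'.injective, hJ4.card_U, hUc]
  have hiso : hJ4.U ≃* (U : Subgroup G) :=
    (hJ4.U.equivMapOfInjective f'.toMonoidHom f'.injective).trans (MulEquiv.subgroupCongr hmap)
  have hNm : normalizer ((U : Subgroup G) : Set G) = (normalizer (hJ4.U : Set Spor.J4)).map f'.toMonoidHom := by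
    rw [← hmap, ← Subgroup.map_equiv_normalizer_eq]
  refine ⟨isExtraspecial_congr hiso hJ4.isExtraspecial, by rw [hUc]; norm_num, ?_, ?_, K.map f'.toMonoidHom, ?_, ?_⟩
  · rw [← Monoid.exponent_eq_of_mulEquiv hiso, hJ4.exponent]
  · rw [hNm, card_map_of_injective (f := f'.toMonoidHom) f'.injective, hN]; norm_num
  · rw [hNm]; exact map_mono hK
  · exact ⟨(K.equivMapOfInjective f'.toMonoidHom f'.injective).symm.trans f⟩

/-- The two classes of elements of order 11 in a group of Janko-four type. -/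
theorem two_classes_of_iso (e : G ≃* Spor.J4) :
    ∃ x y : G, orderOf x = 11 ∧ orderOf y = 11 ∧ ¬ IsConj x y ∧
      ∀ w : G, orderOf w = 11 → IsConj w x ∨ IsConj w y := by
  obtain ⟨hx, hz, hne, hall⟩ := two_classes
  refine ⟨e.symm eX, e.symm eZ, by rw [MulEquiv.orderOf_eq, hx], by rw [MulEquiv.orderOf_eq, hz], fun h => hne ?_,
    fun w hw => ?_⟩
  · have := e.toMonoidHom.map_isConj h
    simpa using this
  · rcases hall (e w) (by rw [MulEquiv.orderOf_eq, hw]) with h | h
    · exact Or.inl (by simpa using e.symm.toMonoidHom.map_isConj h)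
    · exact Or.inr (by simpa using e.symm.toMonoidHom.map_isConj h)

end Cfsg.Lib.J4Eleven
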