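import Cfsg.Agent.J4Cert.CentDef
import Cfsg.Agent.J4Eleven.Data.Tables

/-!
A group of order 319440 in the representation of degree 112: the finite checks.
-/

set_option autoImplicit false
set_option maxRecDepth 8000
set_option Elab.async false

namespace Cfsg.Lib.J4Eleven

open Cfsg.Lib.J4Cert

/-- The matrices by index. -/
def em (k : ℕ) : List ℕ := emTab.get k

/-- The first generator of the group of order 1331. -/
def mU : List ℕ := em 291
/-- The second generator. -/
def mX : List ℕ := em 172
/-- The central element. -/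
def mZ : List ℕ := em 490
/-- The three generators of the complement. -/
def mG (i : ℕ) : List ℕ := em ([349, 495, 499].getD i 499)

/-- The exponents of the images of the first two generators and of the central one. -/
def gAct : List ((ℕ × ℕ × ℕ) × (ℕ × ℕ × ℕ) × ℕ) :=
  [((6, 7, 0), (5, 2, 1), 10), ((6, 7, 1), (8, 4, 5), 1), ((4, 0, 6), (0, 4, 9), 5)]

/-- The matrix of a normal form. -/
def mEl (t : ℕ × ℕ × ℕ) : List ℕ := mB (mB (mPow mU t.1) (mPow mX t.2.1)) (mPow mZ t.2.2)

/-- The relations of the group of order 1331. -/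
def heisOK : Bool :=
  leq (mPow mU 11) J4Rep.idMat && leq (mPow mX 11) J4Rep.idMat && leq (mPow mZ 11) J4Rep.idMat &&
    !leq mZ J4Rep.idMat && leq (mB mZ mU) (mB mU mZ) && leq (mB mZ mX) (mB mX mZ) &&
    leq (mB mX mU) (mB (mB mU mX) (mPow mZ 5))

/-- The normalising elements. -/
def normOK : Bool :=
  gAct.zipIdx.all fun e =>
    leq (mB (mG e.2) mU) (mB (mEl e.1.1) (mG e.2)) && leq (mB (mG e.2) mX) (mB (mEl e.1.2.1) (mG e.2)) &&
      leq (mB (mG e.2) mZ) (mB (mPow mZ e.1.2.2) (mG e.2))

/-- The element of order five. -/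
def fiveOK : Bool := leq (mPow (mG 2) 5) J4Rep.idMat && !leq (mG 2) J4Rep.idMat

/-- The copy of GL(2,3): the table is that of the matrices. -/
def glOK : Bool :=
  leq (em (emK.getD 0 0)) J4Rep.idMat &&
    (emK.zip emStep).all (fun e => leq (mB (em e.1) (mG 0)) (em (emK.getD e.2.1 0)) &&
      leq (mB (em e.1) (mG 1)) (em (emK.getD e.2.2 0))) &&
    emK.tail.all fun k => !leq (em k) J4Rep.idMat

/-- The trace of a matrix over the field with two elements. -/
def trPar (A : List ℕ) : ZMod 2 := ∑ i : Fin 112, bif (A.getD i.val 0).testBit i.val then 1 else 0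

theorem em_letters : ∀ l < 4, em l = letM l := by decide +kernel

theorem prog0_ok : progOK em 4 emProg0 = true := by decide +kernel
theorem prog1_ok : progOK em 84 emProg1 = true := by decide +kernel
theorem prog2_ok : progOK em 164 emProg2 = true := by decide +kernel
theorem prog3_ok : progOK em 244 emProg3 = true := by decide +kernel
theorem prog4_ok : progOK em 324 emProg4 = true := by decide +kernel
theorem prog5_ok : progOK em 404 emProg5 = true := by decide +kernel
theorem prog6_ok : progOK em 484 emProg6 = true := by decide +kernel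

theorem heis_ok : heisOK = true := by decide +kernel
theorem norm_ok : normOK = true := by decide +kernel
theorem five_ok : fiveOK = true := by decide +kernel
theorem gl_ok : glOK = true := by decide +kernel
theorem trace_ok : trPar mZ = 1 ∧ trPar mX = 0 := by decide +kernel

theorem em_mem : ∀ j < 548, ∃ g, MOK g (em j) := by
  have h0 : ∀ j < 4, ∃ g, MOK g (em j) := fun j hj => ⟨letG j, em_letters j hj ▸ letM_ok j⟩
  have h1 : ∀ j < 84, ∃ g, MOK g (em j) := progOK_sound em_letters emProg0 4 prog0_ok h0
  have h2 : ∀ j < 164, ∃ g, MOK g (em j) := progOK_sound em_letters emProg1 84 prog1_ok h1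
  have h3 : ∀ j < 244, ∃ g, MOK g (em j) := progOK_sound em_letters emProg2 164 prog2_ok h2
  have h4 : ∀ j < 324, ∃ g, MOK g (em j) := progOK_sound em_letters emProg3 244 prog3_ok h3
  have h5 : ∀ j < 404, ∃ g, MOK g (em j) := progOK_sound em_letters emProg4 324 prog4_ok h4
  have h6 : ∀ j < 484, ∃ g, MOK g (em j) := progOK_sound em_letters emProg5 404 prog5_ok h5
  have h7 : ∀ j < 548, ∃ g, MOK g (em j) := progOK_sound em_letters emProg6 484 prog6_ok h6
  exact h7

end Cfsg.Lib.J4Eleven
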