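import Cfsg.Agent.J4Eleven.Checks
import Cfsg.Agent.J4Cert.Linear
import Cfsg.Agent.J4Cert.Mask

/-!
The copy of GL(2,3) inside the group of order 319440.
-/

set_option autoImplicit false
set_option maxRecDepth 8000
set_option synthInstance.maxSize 4000

namespace Cfsg.Lib.J4Eleven

open Cfsg Cfsg.Lib.J4Cert

/-- A listed matrix over the field with three elements. -/
def gm (i : ℕ) : Matrix (Fin 2) (Fin 2) (ZMod 3) :=
  let e := emGL.getD i (1, 0, 0, 1)
  !![(e.1 : ZMod 3), (e.2.1 : ZMod 3); (e.2.2.1 : ZMod 3), (e.2.2.2 : ZMod 3)]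

/-- One of the two generators. -/
def gGen (j : ℕ) : Matrix (Fin 2) (Fin 2) (ZMod 3) :=
  bif Nat.beq j 0 then gm ((emStep.getD 0 (0, 0)).1) else gm ((emStep.getD 0 (0, 0)).2)

/-- The successor in the table. -/
def gNext (i j : ℕ) : ℕ := bif Nat.beq j 0 then (emStep.getD i (0, 0)).1 else (emStep.getD i (0, 0)).2

theorem gm_step : ∀ i < 48, ∀ j < 2, gm i * gGen j = gm (gNext i j) ∧ gNext i j < 48 := by decide +kernel

theorem gm_par : ∀ i < 48, i ≠ 0 → (emPar.getD i (0, 0)).1 < i ∧ (emPar.getD i (0, 0)).2 < 2 ∧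
    gNext (emPar.getD i (0, 0)).1 (emPar.getD i (0, 0)).2 = i := by decide +kernel

theorem gm_all : gm 0 = 1 ∧ emK.length = 48 ∧ emStep.length = 48 ∧ (∀ k ∈ emK, k < 548) ∧
    (∀ i < 48, ∀ j < 48, gm i = gm j → i = j) ∧
    ∀ a b c d : ZMod 3, a * d - b * c ≠ 0 → ∃ i : Fin 48, gm i.val = !![a, b; c, d] := by decide +kernel

attribute [local irreducible] mB em emK emStep emPar emGL gm gGen gNext mG

theorem eq_of_leq {g h : Spor.J4} {A B : List ℕ} (hg : MOK g A) (hh : MOK h B) (e : leq A B = true) : g = h := by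
  rw [leq_eq e] at hg
  exact rhoG_injective (hg.rho_eq hh)

theorem ne_one_of {g : Spor.J4} {A : List ℕ} (hg : MOK g A) (e : leq A J4Rep.idMat = false) : g ≠ 1 := by
  rintro rfl
  have hl : ∀ {B : List ℕ}, MOK (1 : Spor.J4) B → B = J4Rep.idMat := fun {B} hB => by
    have h := hB.1
    simp only [okMat, Bool.and_eq_true, List.all_eq_true, decide_eq_true_eq] at h
    have hlen : B.length = 112 := Nat.eq_of_beq_eq_true h.1
    refine List.ext_getElem (by rw [hlen]; simp [J4Rep.idMat]) fun i h1 h2 => ?_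
    have hi : i < 112 := hlen ▸ h1
    have h' := hB.2 (unitVec ⟨i, hi⟩)
    rw [map_one] at h'
    change 2 ^ i = J4Rep.va (2 ^ i) B at h'
    rw [va_unit B i h1, List.getD_eq_getElem _ _ h1] at h'
    rw [← h']
    simp [J4Rep.idMat]
  rw [hl hg] at e
  have : leq J4Rep.idMat J4Rep.idMat = true := by decide +kernel
  rw [this] at e
  exact Bool.noConfusion e

/-- A generator of the normalising group. -/
noncomputable def eG (i : Fin 3) : Spor.J4 := (em_mem ([349, 495, 499].getD i.val 499) (by fin_cases i <;> simp)).choose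

theorem eG_ok (i : Fin 3) : MOK (eG i) (mG i.val) := by
  unfold mG
  exact (em_mem ([349, 495, 499].getD i.val 499) (by fin_cases i <;> simp)).choose_spec

theorem kId_lt (i : ℕ) : emK.getD i 0 < 548 := by
  by_cases h : i < emK.length
  · rw [List.getD_eq_getElem _ _ h]
    exact gm_all.2.2.2.1 _ (List.getElem_mem h)
  · rw [List.getD_eq_default _ _ (by omega)]
    norm_num

/-- An element of the small subgroup. -/
noncomputable def kel (i : ℕ) : Spor.J4 := (em_mem (emK.getD i 0) (kId_lt i)).choose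

theorem kel_ok (i : ℕ) : MOK (kel i) (em (emK.getD i 0)) := (em_mem (emK.getD i 0) (kId_lt i)).choose_spec

theorem kel_step : kel 0 = 1 ∧ (∀ i < 48, ∀ j < 2, kel i * eG (if j = 0 then 0 else 1) = kel (gNext i j)) ∧
    ∀ i < 48, i ≠ 0 → kel i ≠ 1 := by
  obtain ⟨-, hK, hS, -⟩ := gm_all
  have h := gl_ok
  simp only [glOK, Bool.and_eq_true, List.all_eq_true, Bool.not_eq_true'] at h
  obtain ⟨⟨h0, hst⟩, hne⟩ := h
  refine ⟨eq_of_leq (kel_ok 0) MOK.one h0, fun i hi j hj => ?_, fun i hi hi0 => ?_⟩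
  · have hm : (emK.getD i 0, emStep.getD i (0, 0)) ∈ emK.zip emStep :=
      List.mem_iff_getElem.2 ⟨i, by simp [hK, hS, hi], by
        rw [List.getElem_zip, List.getD_eq_getElem _ _ (by omega), List.getD_eq_getElem _ _ (by omega)]⟩
    obtain ⟨ha, hb⟩ := hst _ hm
    interval_cases j
    · rw [if_pos rfl, gNext]
      exact eq_of_leq ((kel_ok i).mul (eG_ok 0)) (kel_ok _) ha
    · rw [if_neg (by norm_num), gNext]
      exact eq_of_leq ((kel_ok i).mul (eG_ok 1)) (kel_ok _) hb
  · refine ne_one_of (kel_ok i) (hne _ ?_)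
    refine List.mem_iff_getElem.2 ⟨i - 1, by rw [List.length_tail]; omega, ?_⟩
    rw [List.getElem_tail, List.getD_eq_getElem _ _ (by omega)]
    congr 1
    omega

theorem kel_mul : ∀ j < 48, ∀ i < 48, ∀ k < 48, gm i * gm j = gm k → kel i * kel j = kel k := by
  obtain ⟨h1, -, -, -, hinj, hall⟩ := gm_all
  have hidx : ∀ M : Matrix (Fin 2) (Fin 2) (ZMod 3), M.det ≠ 0 → ∃ i < 48, gm i = M := fun M hM => by
    rw [Matrix.det_fin_two] at hM
    obtain ⟨i, hi⟩ := hall _ _ _ _ hM
    exact ⟨i.val, i.2, hi.trans (Matrix.eta_fin_two M).symm⟩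
  intro j
  induction j using Nat.strong_induction_on with
  | _ j ih =>
    intro hj i hi k hk e
    by_cases hj0 : j = 0
    · subst hj0
      rw [h1, mul_one] at e
      rw [kel_step.1, mul_one, hinj i hi k hk e]
    · obtain ⟨hp, hg, hnext⟩ := gm_par j hj hj0
      generalize (emPar.getD j (0, 0)).1 = p at hp hnext
      generalize (emPar.getD j (0, 0)).2 = g at hg hnext
      have e1 := (gm_step p (by omega) g hg).1
      rw [hnext] at e1
      have hdet : ∀ n < 48, (gm n).det ≠ 0 := (by decide +kernel : ∀ n < 48, (gm n).det ≠ 0)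
      obtain ⟨k', hk', hkk⟩ := hidx (gm i * gm p)
        (by rw [Matrix.det_mul]; exact mul_ne_zero (hdet i hi) (hdet p (by omega)))
      have e3 := (gm_step k' hk' g hg)
      rw [← hnext, ← kel_step.2.1 p (by omega) g hg, ← mul_assoc, ih p hp (by omega) i hi k' hk' hkk.symm,
        kel_step.2.1 k' hk' g hg]
      refine congrArg kel (hinj _ e3.2 k hk ?_)
      rw [← e3.1, hkk, mul_assoc, e1, e]

/-- The small subgroup is GL(2,3), generated by the first two elements. -/
theorem exists_glHom : ∃ φ : GL (Fin 2) (ZMod 3) →* Spor.J4, Function.Injective φ ∧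
    ∀ S : Subgroup Spor.J4, eG 0 ∈ S → eG 1 ∈ S → φ.range ≤ S := by
  obtain ⟨h1, -, -, -, hinj, hall⟩ := gm_all
  have hidx : ∀ g : GL (Fin 2) (ZMod 3), ∃ i < 48, gm i = (g : Matrix (Fin 2) (Fin 2) (ZMod 3)) := fun g => by
    have hd := Matrix.GeneralLinearGroup.det g |>.ne_zero
    rw [Matrix.GeneralLinearGroup.val_det_apply, Matrix.det_fin_two] at hd
    obtain ⟨i, hi⟩ := hall _ _ _ _ hd
    exact ⟨i.val, i.2, hi.trans (Matrix.eta_fin_two _).symm⟩
  choose idx hlt hspec using hidx
  let φ : GL (Fin 2) (ZMod 3) →* Spor.J4 := MonoidHom.mk' (fun g => kel (idx g)) fun g h =>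
    (kel_mul _ (hlt h) _ (hlt g) _ (hlt _) (by rw [hspec, hspec, hspec]; rfl)).symm
  refine ⟨φ, (injective_iff_map_eq_one φ).2 fun g hg => ?_, fun S ha hb => ?_⟩
  · refine Units.ext ?_
    rw [← hspec]
    by_cases h0 : idx g = 0
    · rw [h0, h1]; rfl
    · exact absurd hg (kel_step.2.2 _ (hlt g) h0)
  · have key : ∀ i < 48, kel i ∈ S := by
      intro i
      induction i using Nat.strong_induction_on with
      | _ i ih =>
        intro hi
        by_cases h0 : i = 0
        · rw [h0, kel_step.1]; exact S.one_mem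
        · obtain ⟨hp, hg, hnext⟩ := gm_par i hi h0
          rw [← hnext, ← kel_step.2.1 _ (by omega) _ hg]
          refine S.mul_mem (ih _ hp (by omega)) ?_
          split <;> assumption
    rintro _ ⟨g, rfl⟩
    exact key _ (hlt g)

end Cfsg.Lib.J4Eleven
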