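import Cfsg.Agent.PGroups.HeisenbergGL

/-!
A group of order 1331 given by two elements and a central commutator.
-/

set_option autoImplicit false

namespace Cfsg.Lib.J4Eleven

open Subgroup
open scoped commutatorElement

/-- Three elements with the relations of the extraspecial group of order 1331 and exponent 11. -/
structure Heis (G : Type*) [Group G] where
  u : G
  x : G
  z : G
  hu : u ^ 11 = 1
  hx : x ^ 11 = 1
  hz : z ^ 11 = 1
  hz1 : z ≠ 1
  zu : Commute z u
  zx : Commute z x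
  rel : x * u = u * x * z ^ 5

namespace Heis

variable {G : Type*} [Group G] (H : Heis G)

/-- A normal form. -/
def el (a b c : ℕ) : G := H.u ^ a * H.x ^ b * H.z ^ c

theorem pow_x_u (b : ℕ) : H.x ^ b * H.u = H.u * H.x ^ b * H.z ^ (5 * b) := by
  induction b with
  | zero => simp
  | succ b ih =>
    rw [pow_succ', mul_assoc, ih, ← mul_assoc, ← mul_assoc, H.rel]
    rw [mul_assoc (H.u * H.x) (H.z ^ 5), ((H.zx.pow_left 5).pow_right b).eq, Nat.mul_succ, Nat.add_comm (5 * b) 5,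
      pow_add]
    simp only [mul_assoc]

theorem pow_x_pow_u (a b : ℕ) : H.x ^ b * H.u ^ a = H.u ^ a * H.x ^ b * H.z ^ (5 * b * a) := by
  induction a with
  | zero => simp
  | succ a ih =>
    calc H.x ^ b * H.u ^ (a + 1) = H.x ^ b * H.u ^ a * H.u := by rw [pow_succ, mul_assoc]
      _ = H.u ^ a * H.x ^ b * (H.z ^ (5 * b * a) * H.u) := by rw [ih, mul_assoc]
      _ = H.u ^ a * (H.x ^ b * H.u) * H.z ^ (5 * b * a) := by
        rw [(H.zu.pow_left _).eq]; simp only [mul_assoc]
      _ = H.u ^ (a + 1) * H.x ^ b * (H.z ^ (5 * b) * H.z ^ (5 * b * a)) := by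
        rw [H.pow_x_u, pow_succ]; simp only [mul_assoc]
      _ = _ := by rw [← pow_add, show 5 * b + 5 * b * a = 5 * b * (a + 1) by ring]

theorem z_comm_el (n a b c : ℕ) : Commute (H.z ^ n) (H.el a b c) :=
  (((H.zu.pow_left n).pow_right a).mul_right ((H.zx.pow_left n).pow_right b)).mul_right
    ((Commute.refl H.z).pow_pow n c)

theorem el_mul (a b c a' b' c' : ℕ) :
    H.el a b c * H.el a' b' c' = H.el (a + a') (b + b') (c + c' + 5 * b * a') := by
  calc H.el a b c * H.el a' b' c' = H.u ^ a * H.x ^ b * (H.z ^ c * (H.u ^ a' * H.x ^ b')) * H.z ^ c' := by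
        simp only [el, mul_assoc]
    _ = H.u ^ a * (H.x ^ b * H.u ^ a') * H.x ^ b' * H.z ^ c * H.z ^ c' := by
        rw [(((H.zu.pow_left c).pow_right a').mul_right ((H.zx.pow_left c).pow_right b')).eq]
        simp only [mul_assoc]
    _ = H.u ^ a * H.u ^ a' * H.x ^ b * (H.z ^ (5 * b * a') * H.x ^ b') * H.z ^ c * H.z ^ c' := by
        rw [H.pow_x_pow_u]; simp only [mul_assoc]
    _ = H.u ^ a * H.u ^ a' * (H.x ^ b * H.x ^ b') * (H.z ^ (5 * b * a') * (H.z ^ c * H.z ^ c')) := by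
        rw [((H.zx.pow_left _).pow_right b').eq]; simp only [mul_assoc]
    _ = _ := by
        rw [el, ← pow_add, ← pow_add, ← pow_add, ← pow_add,
          show 5 * b * a' + (c + c') = c + c' + 5 * b * a' by ring]

theorem el_zero : H.el 0 0 0 = 1 := by simp [el]
theorem u_eq : H.u = H.el 1 0 0 := by simp [el]
theorem x_eq : H.x = H.el 0 1 0 := by simp [el]
theorem z_eq (c : ℕ) : H.z ^ c = H.el 0 0 c := by simp [el]

theorem el_mod (a b c : ℕ) : H.el a b c = H.el (a % 11) (b % 11) (c % 11) := by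
  rw [el, el, ← pow_eq_pow_mod a H.hu, ← pow_eq_pow_mod b H.hx, ← pow_eq_pow_mod c H.hz]

theorem z_pow_eq_one {n : ℕ} : H.z ^ n = 1 ↔ 11 ∣ n := by
  haveI : Fact (Nat.Prime 11) := ⟨by norm_num⟩
  rw [← orderOf_dvd_iff_pow_eq_one, orderOf_eq_prime H.hz H.hz1]

theorem el_eq_one {a b c : ℕ} : H.el a b c = 1 ↔ 11 ∣ a ∧ 11 ∣ b ∧ 11 ∣ c := by
  constructor
  · intro h
    have h5 : ∀ {n : ℕ}, H.z ^ (5 * n) = 1 → 11 ∣ n := fun {n} hn => by
      have := H.z_pow_eq_one.1 hn
      omega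
    have h1 := congrArg (fun g => g * H.el 1 0 0) h
    simp only [one_mul, H.el_mul] at h1
    have h2 := congrArg (fun g => H.el 1 0 0 * g) h
    simp only [mul_one, H.el_mul] at h2
    have hb : 11 ∣ b := by
      refine h5 (n := b) ?_
      have e : H.el (a + 1) b c * H.z ^ (5 * b) = H.el (a + 1) b c := by
        rw [H.z_eq, H.el_mul]
        have e1 : H.el (a + 1) b (c + 5 * b) = H.el 1 0 0 := by simpa using h1
        have e2 : H.el (a + 1) b c = H.el 1 0 0 := by simpa [Nat.add_comm 1 a] using h2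
        simpa [e2] using e1
      exact mul_eq_left.1 e
    have h3 := congrArg (fun g => H.el 0 1 0 * g) h
    simp only [mul_one, H.el_mul] at h3
    have h4 := congrArg (fun g => g * H.el 0 1 0) h
    simp only [one_mul, H.el_mul] at h4
    have ha : 11 ∣ a := by
      refine h5 (n := a) ?_
      have e : H.el a (b + 1) c * H.z ^ (5 * a) = H.el a (b + 1) c := by
        rw [H.z_eq, H.el_mul]
        have e1 : H.el a (b + 1) (c + 5 * a) = H.el 0 1 0 := by simpa [Nat.add_comm 1 b] using h3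
        have e2 : H.el a (b + 1) c = H.el 0 1 0 := by simpa using h4
        simpa [e2] using e1
      exact mul_eq_left.1 e
    refine ⟨ha, hb, H.z_pow_eq_one.1 ?_⟩
    rw [H.el_mod, Nat.mod_eq_zero_of_dvd ha, Nat.mod_eq_zero_of_dvd hb, ← H.z_eq] at h
    rwa [pow_eq_pow_mod c H.hz]
  · rintro ⟨ha, hb, hc⟩
    rw [H.el_mod, Nat.mod_eq_zero_of_dvd ha, Nat.mod_eq_zero_of_dvd hb, Nat.mod_eq_zero_of_dvd hc, H.el_zero]

theorem el_inv (a b c : ℕ) : H.el a b c * H.el (10 * a) (10 * b) (10 * c + 6 * (10 * a) * b) = 1 := by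
  rw [H.el_mul, H.el_eq_one]
  refine ⟨⟨a, by ring⟩, ⟨b, by ring⟩, ⟨c + 10 * a * b, by ring⟩⟩

/-- The group of order 1331. -/
def U : Subgroup G where
  carrier := {g | ∃ a b c, g = H.el a b c}
  one_mem' := ⟨0, 0, 0, H.el_zero.symm⟩
  mul_mem' := by
    rintro g g' ⟨a, b, c, rfl⟩ ⟨a', b', c', rfl⟩
    exact ⟨_, _, _, H.el_mul a b c a' b' c'⟩
  inv_mem' := by
    rintro g ⟨a, b, c, rfl⟩
    exact ⟨_, _, _, inv_eq_of_mul_eq_one_right (H.el_inv a b c)⟩

theorem el_mem (a b c : ℕ) : H.el a b c ∈ H.U := ⟨a, b, c, rfl⟩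

theorem el_inj {a b c a' b' c' : ℕ} (h : H.el a b c = H.el a' b' c') : a % 11 = a' % 11 ∧ b % 11 = b' % 11 := by
  have h1 := congrArg (fun g => g * H.el (10 * a') (10 * b') (10 * c' + 6 * (10 * a') * b')) h
  simp only [H.el_inv, H.el_mul, H.el_eq_one] at h1
  omega

theorem el_inj_z {a b c c' : ℕ} (h : H.el a b c = H.el a b c') : c % 11 = c' % 11 := by
  rw [el, el, mul_left_cancel_iff, pow_eq_pow_iff_modEq] at h
  haveI : Fact (Nat.Prime 11) := ⟨by norm_num⟩
  rwa [orderOf_eq_prime H.hz H.hz1] at h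

theorem card_U : Nat.card H.U = 1331 := by
  refine (Nat.card_eq_of_bijective (fun t : Fin 11 × Fin 11 × Fin 11 => (⟨H.el t.1 t.2.1 t.2.2, H.el_mem _ _ _⟩ : H.U))
    ⟨?_, ?_⟩).symm.trans (by simp)
  · rintro ⟨a, b, c⟩ ⟨a', b', c'⟩ h
    have h' : H.el a b c = H.el a' b' c' := congrArg Subtype.val h
    obtain ⟨h1, h2⟩ := H.el_inj h'
    have ha : a = a' := Fin.ext (by have := a.2; have := a'.2; omega)
    have hb : b = b' := Fin.ext (by have := b.2; have := b'.2; omega)
    subst ha hb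
    have h3 := H.el_inj_z h'
    have hc : c = c' := Fin.ext (by have := c.2; have := c'.2; omega)
    rw [hc]
  · rintro ⟨g, a, b, c, rfl⟩
    exact ⟨(⟨a % 11, Nat.mod_lt _ (by norm_num)⟩, ⟨b % 11, Nat.mod_lt _ (by norm_num)⟩,
      ⟨c % 11, Nat.mod_lt _ (by norm_num)⟩), Subtype.ext (H.el_mod a b c).symm⟩

theorem el_pow (a b c : ℕ) : ∀ n : ℕ, H.el a b c ^ n = H.el (n * a) (n * b) (n * c + 5 * a * b * n.choose 2)
  | 0 => by simp [H.el_zero]
  | n + 1 => by
    rw [pow_succ, el_pow a b c n, H.el_mul, Nat.choose_succ_succ n 1, Nat.choose_one_right]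
    congr 1 <;> ring

theorem pow_eleven {g : G} (hg : g ∈ H.U) : g ^ 11 = 1 := by
  obtain ⟨a, b, c, rfl⟩ := hg
  rw [H.el_pow, H.el_eq_one]
  exact ⟨dvd_mul_right _ _, dvd_mul_right _ _, ⟨c + 25 * a * b, by
    rw [show Nat.choose 11 2 = 55 from rfl]; ring⟩⟩

theorem comm_iff {a b a' b' c c' : ℕ} :
    H.el a b c * H.el a' b' c' = H.el a' b' c' * H.el a b c ↔ 5 * b * a' % 11 = 5 * b' * a % 11 := by
  rw [H.el_mul, H.el_mul, Nat.add_comm a' a, Nat.add_comm b' b]
  constructor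
  · intro h
    have := H.el_inj_z h
    omega
  · intro h
    rw [H.el_mod, H.el_mod (a + a') (b + b') (c' + c + 5 * b' * a)]
    congr 1
    omega

theorem commute_gens {a b c : ℕ} (hu : Commute (H.el a b c) H.u) (hx : Commute (H.el a b c) H.x) :
    11 ∣ a ∧ 11 ∣ b := by
  rw [H.u_eq] at hu
  rw [H.x_eq] at hx
  have h1 := H.comm_iff.1 hu.eq
  have h2 := H.comm_iff.1 hx.eq
  omega

theorem mem_center_iff (g : H.U) : g ∈ center H.U ↔ (g : G) ∈ zpowers H.z := by
  obtain ⟨_, a, b, c, rfl⟩ := g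
  rw [Subgroup.mem_center_iff]
  constructor
  · intro h
    obtain ⟨ha, hb⟩ := H.commute_gens
      (show Commute (H.el a b c) H.u from
        (congrArg Subtype.val (h ⟨H.u, by rw [H.u_eq]; exact H.el_mem _ _ _⟩)).symm)
      (show Commute (H.el a b c) H.x from
        (congrArg Subtype.val (h ⟨H.x, by rw [H.x_eq]; exact H.el_mem _ _ _⟩)).symm)
    show H.el a b c ∈ zpowers H.z
    rw [H.el_mod, Nat.mod_eq_zero_of_dvd ha, Nat.mod_eq_zero_of_dvd hb, ← H.z_eq]
    exact pow_mem (mem_zpowers _) _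
  · rintro h ⟨_, a', b', c', rfl⟩
    obtain ⟨n, hn⟩ := Subgroup.mem_zpowers_iff.1 h
    refine Subtype.ext ?_
    show H.el a' b' c' * H.el a b c = H.el a b c * H.el a' b' c'
    rw [show H.el a b c = H.z ^ n from hn.symm]
    refine (Commute.zpow_left ?_ n).eq.symm
    simpa using H.z_comm_el 1 a' b' c'

theorem z_mem : H.z ∈ H.U := ⟨0, 0, 1, by simp [el]⟩

theorem card_center : Nat.card (center H.U) = 11 := by
  haveI : Fact (Nat.Prime 11) := ⟨by norm_num⟩
  have e : center H.U = (zpowers H.z).subgroupOf H.U := by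
    ext g; rw [H.mem_center_iff, Subgroup.mem_subgroupOf]
  rw [e, Nat.card_congr (Subgroup.subgroupOfEquivOfLe (zpowers_le.2 H.z_mem)).toEquiv, Nat.card_zpowers,
    orderOf_eq_prime H.hz H.hz1]

end Heis

namespace Heis

variable {G : Type} [Group G] (H : Heis G)

theorem isPGroup : IsPGroup 11 H.U := fun g => ⟨1, Subtype.ext (by simpa using H.pow_eleven g.2)⟩

theorem isExtraspecial : Cfsg.IsExtraspecial 11 H.U := by
  haveI : Fact (Nat.Prime 11) := ⟨by norm_num⟩
  haveI : Finite H.U := Nat.finite_of_card_ne_zero (by rw [H.card_U]; norm_num)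
  have hquot : commutator H.U ≤ center H.U := by
    rw [_root_.commutator_def, commutator_le]
    rintro ⟨_, a, b, c, rfl⟩ - ⟨_, a', b', c', rfl⟩ -
    rw [H.mem_center_iff]
    show H.el a b c * H.el a' b' c' * (H.el a b c)⁻¹ * (H.el a' b' c')⁻¹ ∈ zpowers H.z
    have e : H.el a b c * H.el a' b' c' = H.el a' b' c' * H.el a b c * H.z ^ (5 * b * a' + 10 * (5 * b' * a)) := by
      rw [H.z_eq, H.el_mul, H.el_mul, H.el_mul, H.el_mod, H.el_mod (a' + a + 0)]
      congr 1 <;> omega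
    obtain ⟨n, hn⟩ : ∃ n, n = 5 * b * a' + 10 * (5 * b' * a) := ⟨_, rfl⟩
    rw [e, ← hn, mul_assoc (H.el a' b' c' * H.el a b c), ((H.z_comm_el n a b c).inv_right).eq]
    simp only [mul_assoc, mul_inv_cancel_left]
    rw [((H.z_comm_el n a' b' c').inv_right).eq, mul_inv_cancel_left]
    exact pow_mem (mem_zpowers _) _
  have hcomm : center H.U ≤ commutator H.U := by
    haveI : IsSimpleGroup (center H.U) := isSimpleGroup_of_prime_card H.card_center
    by_contra hne
    have hne' : commutator H.U ≠ center H.U := fun h => hne h.ge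
    have hbot : commutator H.U = ⊥ := by
      have h1 := Subgroup.card_dvd_of_le hquot
      rw [H.card_center] at h1
      rcases (Nat.dvd_prime (by norm_num)).1 h1 with h | h
      · exact Subgroup.card_eq_one.1 h
      · exact absurd (Subgroup.eq_of_le_of_card_ge hquot (by rw [h, H.card_center])) hne'
    obtain ⟨p, hp⟩ : ∃ p : H.U, (p : G) = H.u := ⟨⟨H.u, by rw [H.u_eq]; exact H.el_mem _ _ _⟩, rfl⟩
    obtain ⟨q, hq⟩ : ∃ q : H.U, (q : G) = H.x := ⟨⟨H.x, by rw [H.x_eq]; exact H.el_mem _ _ _⟩, rfl⟩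
    have h1 : ⁅p, q⁆ = (1 : H.U) := by
      rw [← Subgroup.mem_bot, ← hbot, _root_.commutator_def]
      exact commutator_mem_commutator (mem_top _) (mem_top _)
    rw [commutatorElement_eq_one_iff_mul_comm] at h1
    have h2 : (p : G) * q = q * p := congrArg Subtype.val h1
    rw [hp, hq] at h2
    rw [H.u_eq, H.x_eq] at h2
    have := H.comm_iff.1 h2
    omega
  have hF : frattini H.U = center H.U := le_antisymm
    (Cfsg.Lib.HeisGL.isExtraspecial.frattini_le_center H.isPGroup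
      (fun g => by rw [show g ^ 11 = 1 from Subtype.ext (by simpa using H.pow_eleven g.2)]; exact one_mem _) hquot)
    (hcomm.trans (Cfsg.Lib.PGroups.commutator_le_frattini H.isPGroup))
  exact ⟨⟨H.isPGroup, hF, le_antisymm hquot hcomm⟩, H.card_center⟩

theorem exponent : Monoid.exponent H.U = 11 := by
  have h : Monoid.exponent H.U ∣ 11 :=
    Monoid.exponent_dvd_of_forall_pow_eq_one fun g => Subtype.ext (by simpa using H.pow_eleven g.2)
  rcases (Nat.dvd_prime (by norm_num)).1 h with h1 | h1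
  · haveI := Monoid.exp_eq_one_iff.1 h1
    have hc := H.card_U
    rw [Nat.card_of_subsingleton (1 : H.U)] at hc
    omega
  · exact h1

end Heis

end Cfsg.Lib.J4Eleven
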